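import Groth.Agent.LabGraphLib.Surj

/-! # The multidegree map of the total blow-up -/

set_option autoImplicit false
universe u

open LabGraph

namespace LabGraphLib

variable {V E : Type u} [Fintype V] [Fintype E] [DecidableEq V] [DecidableEq E]
  (ends : E → V × V) (l : E → ℕ)

omit [Fintype V] [Fintype E] [DecidableEq V] [DecidableEq E] in
lemma pathVert_eq_inr_iff {e e' : E} {k : ℕ} {j : Fin (l e - 1)} :
    pathVert ends l e' k = Sum.inr ⟨e, j⟩ ↔ e' = e ∧ k = j.val + 1 := by
  constructor
  · intro h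
    unfold pathVert at h
    split_ifs at h with h0 hk
    simp only [Sum.inr.injEq, Sigma.mk.injEq] at h
    obtain ⟨rfl, h⟩ := h
    have := congrArg Fin.val (eq_of_heq h)
    simp only at this
    exact ⟨rfl, by omega⟩
  · rintro ⟨rfl, rfl⟩
    have hj := j.2
    rw [pathVert, dif_neg (by omega), dif_pos (by omega)]
    simp

omit [DecidableEq V] [Fintype V] [Fintype E] [DecidableEq E] in
lemma pathVert_mid {e : E} (j : Fin (l e - 1)) : pathVert ends l e (j.val + 1) = Sum.inr ⟨e, j⟩ :=
  (pathVert_eq_inr_iff ends l).2 ⟨rfl, rfl⟩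

lemma mdeg_inr (ψ : BlVert V E l → ℤ) (e : E) (j : Fin (l e - 1)) :
    mdeg (blEnds ends l) (fun _ => 1) ψ (Sum.inr ⟨e, j⟩) =
      ψ (pathVert ends l e j.val) - 2 * ψ (pathVert ends l e (j.val + 1)) + ψ (pathVert ends l e (j.val + 2)) := by
  have hj := j.2
  simp only [mdeg, blEnds, Nat.cast_one, Int.ediv_one, pathVert_eq_inr_iff]
  rw [Fintype.sum_sigma, Finset.sum_eq_single e ?_ (by simp)]
  · simp only [true_and, Finset.sum_add_distrib]
    rw [Finset.sum_eq_single (⟨j.val + 1, by omega⟩ : Fin (l e)) ?_ (by simp),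
      Finset.sum_eq_single (⟨j.val, by omega⟩ : Fin (l e)) ?_ (by simp)]
    · simp only [if_true]
      ring
    · intro k _ hk
      rw [if_neg fun h => hk (Fin.ext (by simpa using h))]
    · intro k _ hk
      rw [if_neg fun h => hk (Fin.ext (by simpa using h))]
  · intro e' _ he'
    exact Finset.sum_eq_zero fun k _ => by rw [if_neg fun h => he' h.1, if_neg fun h => he' h.1, add_zero]

/-- A particular solution of the second difference equation. -/
def part (B : ℕ → ℤ) : ℕ → ℤ
  | 0 => 0
  | 1 => 0
  | (i + 2) => 2 * part B (i + 1) - part B i - B i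

omit [DecidableEq E] in
theorem surjective_iff [DecidableEq E] (hl : ∀ e, 0 < l e) :
    (∀ β : BlVert V E l → ℤ, ∃ (ψ : BlVert V E l → ℤ) (α : V → ℤ),
        ∀ w, mdeg (blEnds ends l) (fun _ => 1) ψ w + β w = Sum.elim α (fun _ => (0 : ℤ)) w) ↔ Solvable ends l := by
  constructor
  · intro h x
    let β : BlVert V E l → ℤ := Sum.elim (fun _ => 0) fun a => if a.2.val + 2 = l a.1 then -x a.1 else 0
    obtain ⟨ψ, α, hψ⟩ := h β
    refine ⟨fun v => ψ (Sum.inl v), fun e => ?_⟩
    rcases eq_or_ne (l e) 1 with h1 | h1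
    · rw [h1, Nat.cast_one]; exact one_dvd _
    have hl2 : 2 ≤ l e := by have := hl e; omega
    let u : ℕ → ℤ := fun i => ψ (pathVert ends l e i)
    have hrec : ∀ i, (hi : i < l e - 1) → u i - 2 * u (i + 1) + u (i + 2) = if i + 2 = l e then x e else 0 := by
      intro i hi
      have := hψ (Sum.inr ⟨e, ⟨i, hi⟩⟩)
      rw [mdeg_inr] at this
      simp only [β, Sum.elim_inr] at this
      simp only [u]
      split_ifs with h2
      · rw [if_pos h2] at this; linarith
      · rw [if_neg h2] at this; linarith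
    have hlin : ∀ i, i + 1 ≤ l e - 1 → u i = u 0 + i * (u 1 - u 0) ∧ u (i + 1) = u 0 + (i + 1) * (u 1 - u 0) := by
      intro i
      induction i with
      | zero => intro _; constructor <;> simp
      | succ i ih =>
        intro hi
        obtain ⟨h1, h2⟩ := ih (by omega)
        have h3 := hrec i (by omega)
        rw [if_neg (by omega)] at h3
        refine ⟨by push_cast; exact h2, ?_⟩
        push_cast
        linear_combination h3 + 2 * h2 - h1
    obtain ⟨h1', h2'⟩ := hlin (l e - 2) (by omega)
    have h3 := hrec (l e - 2) (by omega)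
    rw [if_pos (by omega), show l e - 2 + 2 = l e by omega] at h3
    have hu0 : u 0 = ψ (Sum.inl (ends e).1) := by simp [u, pathVert]
    have hul : u (l e) = ψ (Sum.inl (ends e).2) := by
      simp only [u, pathVert]; rw [dif_neg (by omega), dif_neg (by omega)]
    refine ⟨-(u 1 - u 0), ?_⟩
    rw [Nat.cast_sub hl2] at h1' h2'
    show x e - (ψ (Sum.inl (ends e).2) - ψ (Sum.inl (ends e).1)) = _
    rw [← hu0, ← hul]
    push_cast at h1' h2'
    linear_combination -h3 + h1' - 2 * h2'
  · intro h β
    let B : E → ℕ → ℤ := fun e i => if hi : i < l e - 1 then β (Sum.inr ⟨e, ⟨i, hi⟩⟩) else 0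
    obtain ⟨φ, hφ⟩ := h fun e => part (B e) (l e)
    choose t ht using hφ
    let ψ : BlVert V E l → ℤ :=
      Sum.elim φ fun a => φ (ends a.1).1 + ((a.2.val : ℤ) + 1) * (-t a.1) + part (B a.1) (a.2.val + 1)
    have hu : ∀ e i, i ≤ l e → ψ (pathVert ends l e i) = φ (ends e).1 + (i : ℤ) * (-t e) + part (B e) i := by
      intro e i hi
      unfold pathVert
      split_ifs with h0 hk
      · subst h0; simp [ψ, part]
      · simp only [ψ, Sum.elim_inr]
        rw [show i - 1 + 1 = i by omega, show ((i - 1 : ℕ) : ℤ) + 1 = (i : ℤ) by omega]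
      · obtain rfl : i = l e := by omega
        simp only [ψ, Sum.elim_inl]
        linear_combination -ht e
    refine ⟨ψ, fun v => mdeg (blEnds ends l) (fun _ => 1) ψ (Sum.inl v) + β (Sum.inl v), fun w => ?_⟩
    rcases w with v | ⟨e, j⟩
    · rfl
    · have hj := j.2
      rw [mdeg_inr, hu e _ (by omega), hu e _ (by omega), hu e _ (by omega)]
      simp only [Sum.elim_inr, part, B, dif_pos j.2, Fin.eta]
      push_cast
      ring

end LabGraphLib
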