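import Groth.Prelude.Def_W4c1nerontoraddGraph
import Mathlib.LinearAlgebra.FiniteDimensional.Lemmas
import Mathlib.LinearAlgebra.Dual.Lemmas
import Mathlib.Data.ZMod.Basic
import Mathlib.Algebra.GCDMonoid.Finset
import Mathlib.RingTheory.Int.Basic
import Mathlib.Data.Rat.Defs
import Mathlib.RingTheory.Localization.Module
import Mathlib.RingTheory.Localization.FractionRing
import Mathlib.Algebra.Field.ZMod
import Mathlib.LinearAlgebra.Basis.VectorSpace
import Mathlib.Tactic.LinearCombination
import Mathlib.Tactic.Linarith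
import Mathlib.Algebra.CharP.Two
import Mathlib.Data.Nat.Factorization.Induction

/-! # Circuit coprimality and surjectivity of the coboundary modulo the labels -/

set_option autoImplicit false
universe u

open LabGraph

namespace LabGraphLib

variable {V E : Type u} [Fintype V] [Fintype E] [DecidableEq V] [DecidableEq E]
  (ends : E → V × V) (l : E → ℕ)

/-- Boundary over any ring. -/
def bd {K : Type*} [CommRing K] (γ : E → K) (v : V) : K :=
  ∑ e : E, ((if (ends e).2 = v then γ e else 0) - (if (ends e).1 = v then γ e else 0))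

lemma sum_bd_mul {K : Type*} [CommRing K] (γ : E → K) (φ : V → K) :
    ∑ v, bd ends γ v * φ v = ∑ e, γ e * (φ (ends e).2 - φ (ends e).1) := by
  simp only [bd, Finset.sum_mul, sub_mul, ite_mul, zero_mul]
  rw [Finset.sum_comm]
  refine Finset.sum_congr rfl fun e _ => ?_
  simp [Finset.sum_sub_distrib, mul_sub]

/-- A nonempty edge set without vertices of valence one carries a nonzero cycle. -/
lemma exists_cycle {S : Finset E} (hS : S.Nonempty) (h1 : ∀ v, endCount ends S v ≠ 1) (F : Type*) [Field F] :
    ∃ γ : E → F, (∀ e, e ∉ S → γ e = 0) ∧ (∃ e ∈ S, γ e ≠ 0) ∧ ∀ v, bd ends γ v = 0 := by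
  classical
  let W : Finset V := Finset.univ.filter fun v => endCount ends S v ≠ 0
  have hWends : ∀ e ∈ S, (ends e).1 ∈ W ∧ (ends e).2 ∈ W := by
    intro e he
    simp only [W, Finset.mem_filter, Finset.mem_univ, true_and, endCount]
    constructor <;> intro h0 <;> have := Finset.sum_eq_zero_iff.1 h0 e he <;> simp at this
  have hcard : 2 * W.card ≤ 2 * S.card := by
    have e1 : ∑ v, endCount ends S v = 2 * S.card := by
      simp only [endCount]
      rw [Finset.sum_comm]
      simp [Finset.sum_add_distrib, mul_comm]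
    rw [← e1]
    calc 2 * W.card = ∑ _v ∈ W, 2 := by simp [mul_comm]
      _ ≤ ∑ v ∈ W, endCount ends S v := Finset.sum_le_sum fun v hv => by
          have := h1 v
          have := (Finset.mem_filter.1 hv).2
          omega
      _ ≤ _ := Finset.sum_le_univ_sum_of_nonneg fun v => Nat.zero_le _
  let ext : (S → F) →ₗ[F] (E → F) :=
    { toFun := fun g e => if h : e ∈ S then g ⟨e, h⟩ else 0
      map_add' := fun a b => by funext e; by_cases h : e ∈ S <;> simp [h]
      map_smul' := fun c a => by funext e; by_cases h : e ∈ S <;> simp [h] }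
  let T : (S → F) →ₗ[F] (W → F) :=
    { toFun := fun g v => bd ends (ext g) v
      map_add' := fun a b => by
        funext v
        simp only [bd, map_add, Pi.add_apply, ← Finset.sum_add_distrib]
        refine Finset.sum_congr rfl fun e _ => ?_
        split_ifs <;> ring
      map_smul' := fun c a => by
        funext v
        simp only [bd, map_smul, Pi.smul_apply, smul_eq_mul, RingHom.id_apply, Finset.mul_sum]
        refine Finset.sum_congr rfl fun e _ => ?_
        split_ifs <;> ring }
  have hout : ∀ g v, v ∉ W → bd ends (ext g) v = 0 := fun g v hv => Finset.sum_eq_zero fun e _ => by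
    by_cases he : e ∈ S
    · rw [if_neg fun (h : (ends e).2 = v) => hv (by rw [← h]; exact (hWends e he).2),
        if_neg fun (h : (ends e).1 = v) => hv (by rw [← h]; exact (hWends e he).1), sub_zero]
    · simp [ext, he]
  by_cases hinj : Function.Injective T
  · exfalso
    let σ : (W → F) →ₗ[F] F := Fintype.linearCombination F fun _ => (1 : F)
    have hrange : LinearMap.range T ≤ LinearMap.ker σ := by
      rintro _ ⟨g, rfl⟩
      rw [LinearMap.mem_ker]
      have h := sum_bd_mul ends (ext g) fun _ => (1 : F)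
      simp only [sub_self, mul_zero, Finset.sum_const_zero, mul_one] at h
      rw [← Finset.sum_subset (Finset.subset_univ W) fun v _ hv => hout g v hv] at h
      simp only [σ, Fintype.linearCombination_apply, smul_eq_mul, mul_one]
      rw [← h]
      exact Finset.sum_coe_sort W fun v => bd ends (ext g) v
    obtain ⟨e, he⟩ := hS
    have hσ : σ ≠ 0 := fun h0 => by
      have := LinearMap.congr_fun h0 (Pi.single ⟨(ends e).1, (hWends e he).1⟩ 1)
      simp [σ, Fintype.linearCombination_apply, Pi.single_apply] at this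
    have hlt : Module.finrank F (LinearMap.ker σ) < Module.finrank F (W → F) :=
      Submodule.finrank_lt fun h => hσ (LinearMap.ker_eq_top.1 h)
    have hle := Submodule.finrank_mono hrange
    rw [LinearMap.finrank_range_of_inj hinj] at hle
    simp only [Module.finrank_fintype_fun_eq_card, Fintype.card_coe] at hle hlt
    omega
  · rw [injective_iff_map_eq_zero] at hinj
    push Not at hinj
    obtain ⟨g, hg, hg0⟩ := hinj
    refine ⟨ext g, fun e he => by simp [ext, he], ?_, fun v => ?_⟩
    · obtain ⟨⟨e, he⟩, hge⟩ := Function.ne_iff.1 hg0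
      exact ⟨e, he, by simpa [ext, he] using hge⟩
    · by_cases hv : v ∈ W
      · exact congrFun hg ⟨v, hv⟩
      · exact hout g v hv

/-- The support of a cycle has no vertex of valence one. -/
lemma endCount_ne_one {K : Type*} [CommRing K] {γ : E → K} (hγ : ∀ v, bd ends γ v = 0) {S : Finset E}
    (hS : ∀ e, e ∈ S ↔ γ e ≠ 0) (v : V) : endCount ends S v ≠ 1 := by
  intro h1
  let t : E → ℕ := fun e => (if (ends e).1 = v then 1 else 0) + (if (ends e).2 = v then 1 else 0)
  have ht : t = fun e => (if (ends e).1 = v then 1 else 0) + (if (ends e).2 = v then 1 else 0) := rfl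
  change ∑ e ∈ S, t e = 1 at h1
  obtain ⟨e₀, he₀, hne⟩ := Finset.exists_ne_zero_of_sum_ne_zero (s := S) (f := t) (by omega)
  have hs := Finset.add_sum_erase S t he₀
  have hone : t e₀ = 1 := by omega
  have hrest : ∀ e ∈ S.erase e₀, t e = 0 := Finset.sum_eq_zero_iff.1 (by omega)
  have h := hγ v
  rw [bd, Finset.sum_eq_single e₀] at h
  · have hge := (hS e₀).1 he₀
    simp only [ht] at hone
    split_ifs at h hone <;> first | omega | simp_all
  · intro e _ hne'
    by_cases heS : e ∈ S
    · have := hrest e (Finset.mem_erase.2 ⟨hne', heS⟩)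
      simp only [ht] at this
      split_ifs at this ⊢ <;> first | omega | simp
    · have : γ e = 0 := by_contra fun hc => heS ((hS e).2 hc)
      simp [this]
  · simp

lemma zmod2_facts : (∀ a : ZMod 2, a ≠ 0 → a = 1) ∧ (-1 : ZMod 2) = 1 := by decide

/-- A nonempty edge set without vertices of valence one contains a circuit. -/
lemma exists_circuit {S : Finset E} (hS : S.Nonempty) (h1 : ∀ v, endCount ends S v ≠ 1) :
    ∃ C ⊆ S, IsCircuit ends C := by
  classical
  haveI : Fact (Nat.Prime 2) := ⟨Nat.prime_two⟩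
  obtain ⟨γ, hγ0, ⟨e₀, he₀, hne₀⟩, hγ⟩ := exists_cycle ends hS h1 (ZMod 2)
  let D := Finset.univ.filter fun e => γ e ≠ 0
  have h01 : ∀ a : ZMod 2, a ≠ 0 → a = 1 := zmod2_facts.1
  have hD : ∀ v, Even (endCount ends D v) := fun v => by
    rw [← ZMod.natCast_eq_zero_iff_even, ← hγ v, endCount, bd, Nat.cast_sum, Finset.sum_filter]
    refine Finset.sum_congr rfl fun e _ => ?_
    rcases eq_or_ne (γ e) 0 with h | h
    · simp [h]
    · rw [if_pos h, h01 _ h]
      have htwo : (-1 : ZMod 2) = 1 := zmod2_facts.2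
      push_cast
      split_ifs <;> simp [htwo, CharTwo.add_self_eq_zero] <;> decide
  let P : Finset (Finset E) := D.powerset.filter fun C => C.Nonempty ∧ ∀ v, Even (endCount ends C v)
  have hDne : D.Nonempty := ⟨e₀, by simp [D, hne₀]⟩
  obtain ⟨C, hC, hmin⟩ := P.exists_min_image Finset.card ⟨D, by simp [P, hDne, hD]⟩
  simp only [P, Finset.mem_filter, Finset.mem_powerset] at hC
  refine ⟨C, fun e he => by_contra fun hc => (Finset.mem_filter.1 (hC.1 he)).2 (hγ0 e hc), hC.2.1, hC.2.2, ?_⟩
  intro C' hC' hne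
  by_contra! hcon
  have := hmin C' (by simp only [P, Finset.mem_filter, Finset.mem_powerset]; exact ⟨hC'.1.trans hC.1, hne, hcon⟩)
  have := Finset.card_lt_card hC'
  omega

/-- Every edge vector is a coboundary modulo the labels. -/
def Solvable : Prop :=
  ∀ x : E → ℤ, ∃ φ : V → ℤ, ∀ e, (l e : ℤ) ∣ x e - (φ (ends e).2 - φ (ends e).1)

theorem solvable_of_coprime (hl : ∀ e, 0 < l e) (h : IsCircuitCoprime ends l) : Solvable ends l := by
  classical
  let Q : ℕ → Prop := fun n => ∀ x : E → ℤ, ∃ (φ : V → ℤ) (y : E → ℤ), ∀ e,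
    (n : ℤ) * (l e : ℤ) ∣ (n : ℤ) * (l e : ℤ) ∧ ∃ z : ℤ, x e - (φ (ends e).2 - φ (ends e).1) = (l e : ℤ) * y e + n * z
  have hprime : ∀ p : ℕ, p.Prime → Q p := by
    intro p hp x
    haveI : Fact p.Prime := ⟨hp⟩
    let S := {e : E // p ∣ l e}
    let d : (V → ZMod p) →ₗ[ZMod p] (S → ZMod p) :=
      { toFun := fun φ e => φ (ends e.1).2 - φ (ends e.1).1
        map_add' := fun a b => funext fun e => by simp only [Pi.add_apply]; ring
        map_smul' := fun c a => funext fun e => by simp only [Pi.smul_apply, smul_eq_mul, RingHom.id_apply]; ring }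
    have hsurj : LinearMap.range d = ⊤ := by
      by_contra hne
      obtain ⟨μ, hμ0, hμ⟩ := Submodule.exists_dual_map_eq_bot_of_lt_top (lt_top_iff_ne_top.2 hne) inferInstance
      let γ : E → ZMod p := fun e => if he : p ∣ l e then μ (Pi.single ⟨e, he⟩ 1) else 0
      have hμg : ∀ g : S → ZMod p, μ g = ∑ e : S, g e * μ (Pi.single e 1) := fun g => by
        conv_lhs => rw [pi_eq_sum_univ' g]
        simp
      have hγbd : ∀ v, bd ends γ v = 0 := fun v => by
        have h0 := sum_bd_mul ends γ (Pi.single v (1 : ZMod p))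
        rw [Finset.sum_eq_single v (fun w _ hw => by simp [Pi.single_eq_of_ne hw]) (by simp), Pi.single_eq_same,
          mul_one] at h0
        rw [h0]
        have h2 : μ (d (Pi.single v 1)) = 0 := by
          have : μ (d (Pi.single v 1)) ∈ (LinearMap.range d).map μ := ⟨_, ⟨_, rfl⟩, rfl⟩
          rwa [hμ, Submodule.mem_bot] at this
        rw [hμg] at h2
        rw [← h2, ← Finset.sum_subset (Finset.subset_univ (Finset.univ.filter fun e => p ∣ l e))
          (fun e _ he => by simp only [Finset.mem_filter, Finset.mem_univ, true_and] at he; simp [γ, he]),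
          Finset.sum_subtype (Finset.univ.filter fun e => p ∣ l e) (p := fun e => p ∣ l e) (fun e => by simp)]
        refine Finset.sum_congr rfl fun e _ => ?_
        simp only [γ, d, dif_pos e.2, Subtype.coe_eta, LinearMap.coe_mk, AddHom.coe_mk, mul_comm]
      let T := Finset.univ.filter fun e => γ e ≠ 0
      have hTne : T.Nonempty := by
        by_contra hT
        refine hμ0 (LinearMap.ext fun g => ?_)
        rw [hμg, LinearMap.zero_apply]
        refine Finset.sum_eq_zero fun e _ => ?_
        have : γ e.1 = 0 := by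
          by_contra hc
          exact hT ⟨e.1, by simp [T, hc]⟩
        simp only [γ, dif_pos e.2, Subtype.coe_eta] at this
        rw [this, mul_zero]
      obtain ⟨C, hCT, hC⟩ := exists_circuit ends hTne (endCount_ne_one ends hγbd (by simp [T]))
      have hdvd : p ∣ C.gcd l := Finset.dvd_gcd fun e he => by
        have := (Finset.mem_filter.1 (hCT he)).2
        simp only [γ] at this
        split_ifs at this with hp'
        · exact hp'
        · exact absurd rfl this
      rw [h C hC, Nat.dvd_one] at hdvd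
      exact hp.ne_one hdvd
    obtain ⟨φ', hφ'⟩ := LinearMap.range_eq_top.1 hsurj fun e => (x e.1 : ZMod p)
    let φ : V → ℤ := fun v => ((φ' v).val : ℤ)
    have hdiv : ∀ e, ∃ y z : ℤ, x e - (φ (ends e).2 - φ (ends e).1) = (l e : ℤ) * y + p * z := by
      intro e
      by_cases he : p ∣ l e
      · have h0 := congrFun hφ' ⟨e, he⟩
        simp only [d, LinearMap.coe_mk, AddHom.coe_mk] at h0
        obtain ⟨z, hz⟩ : (p : ℤ) ∣ x e - (φ (ends e).2 - φ (ends e).1) := by
          rw [← ZMod.intCast_zmod_eq_zero_iff_dvd]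
          simp only [φ, Int.cast_sub, Int.cast_natCast, ZMod.natCast_zmod_val]
          rw [h0, sub_self]
        exact ⟨0, z, by rw [mul_zero, zero_add, hz]⟩
      · obtain ⟨a, b, hab⟩ := (Int.isCoprime_iff_nat_coprime.2 (by simpa using (Nat.Prime.coprime_iff_not_dvd hp).2 he) :
          IsCoprime (p : ℤ) (l e : ℤ))
        exact ⟨b * (x e - (φ (ends e).2 - φ (ends e).1)), a * (x e - (φ (ends e).2 - φ (ends e).1)), by
          linear_combination -(x e - (φ (ends e).2 - φ (ends e).1)) * hab⟩
    choose y z hyz using hdiv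
    exact ⟨φ, y, fun e => ⟨dvd_rfl, z e, hyz e⟩⟩
  have hall : ∀ n : ℕ, n ≠ 0 → Q n := by
    intro n
    induction n using Nat.recOnMul with
    | zero => intro h0; exact absurd rfl h0
    | one => intro _ x; exact ⟨0, 0, fun e => ⟨dvd_rfl, x e, by simp⟩⟩
    | prime p hp => intro _; exact hprime p hp
    | mul a b iha ihb =>
      intro hab x
      obtain ⟨φ, y, hy⟩ := iha (left_ne_zero_of_mul hab) x
      choose z hz using fun e => (hy e).2
      obtain ⟨φ', y', hy'⟩ := ihb (right_ne_zero_of_mul hab) z
      choose z' hz' using fun e => (hy' e).2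
      refine ⟨fun v => φ v + a * φ' v, fun e => y e + a * y' e, fun e => ⟨dvd_rfl, z' e, ?_⟩⟩
      push_cast
      linear_combination hz e + (a : ℤ) * hz' e
  intro x
  obtain ⟨φ, y, hy⟩ := hall (∏ e, l e) (Finset.prod_pos fun e _ => hl e).ne' x
  refine ⟨φ, fun e => ?_⟩
  obtain ⟨z, hz⟩ := (hy e).2
  rw [hz]
  exact dvd_add (dvd_mul_right _ _) (Dvd.dvd.mul_right (Int.natCast_dvd_natCast.2
    (Finset.dvd_prod_of_mem l (Finset.mem_univ e))) _)

theorem coprime_of_orth
    (h : ∀ x : E → ℤ, ∃ y : E → ℤ, ∀ γ : E → ℤ, (∀ v, boundary ends γ v = 0) →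
      ∑ e, γ e * (x e - (l e : ℤ) * y e) = 0) : IsCircuitCoprime ends l := by
  classical
  intro C hC
  by_contra hne
  obtain ⟨p, hp, hpd⟩ := Nat.exists_prime_and_dvd hne
  obtain ⟨γ₀, hγout, ⟨e₀, he₀, hne₀⟩, hγ₀⟩ := exists_cycle ends hC.1
    (fun v h1 => by have := hC.2.1 v; rw [h1] at this; exact Nat.not_even_one this) ℚ
  obtain ⟨⟨N, hN⟩, hNint⟩ := IsLocalization.exist_integer_multiples (nonZeroDivisors ℤ) Finset.univ γ₀
  choose g hg using fun e => hNint e (Finset.mem_univ e)
  have hgq : ∀ e, (g e : ℚ) = (N : ℚ) * γ₀ e := fun e => by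
    have := hg e; simpa [Algebra.smul_def] using this
  have hN0 : (N : ℚ) ≠ 0 := by exact_mod_cast nonZeroDivisors.ne_zero hN
  obtain ⟨g', hg', hgcd⟩ := Finset.extract_gcd g (Finset.univ_nonempty_iff.2 ⟨e₀⟩ : (Finset.univ : Finset E).Nonempty)
  set c := Finset.univ.gcd g with hc
  have hc0 : c ≠ 0 := fun h0 => by
    have := hg' e₀ (Finset.mem_univ _)
    rw [h0, zero_mul] at this
    have h2 := hgq e₀
    rw [this, Int.cast_zero] at h2
    exact hne₀ ((mul_eq_zero.1 h2.symm).resolve_left hN0)
  have hg'bd : ∀ v, boundary ends g' v = 0 := fun v => by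
    have h2 : ((c * boundary ends g' v : ℤ) : ℚ) = (N : ℚ) * bd ends γ₀ v := by
      simp only [boundary, bd, Finset.mul_sum]
      push_cast
      refine Finset.sum_congr rfl fun e _ => ?_
      have h3 : (c : ℚ) * (g' e : ℚ) = (N : ℚ) * γ₀ e := by
        rw [← hgq e, hg' e (Finset.mem_univ e)]; push_cast; rfl
      split_ifs <;> push_cast <;> linarith
    rw [hγ₀ v, mul_zero, Int.cast_eq_zero] at h2
    exact (mul_eq_zero.1 h2).resolve_left hc0
  have hall : ∀ e, (p : ℤ) ∣ g' e := fun e => by
    by_cases he : e ∈ C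
    · obtain ⟨y, hy⟩ := h (Pi.single e 1)
      have h3 := hy g' hg'bd
      simp only [mul_sub, Finset.sum_sub_distrib, sub_eq_zero] at h3
      rw [Finset.sum_eq_single e (fun b _ hb => by simp [Pi.single_eq_of_ne hb]) (by simp), Pi.single_eq_same,
        mul_one] at h3
      rw [h3]
      refine Finset.dvd_sum fun b _ => ?_
      by_cases hb : b ∈ C
      · exact Dvd.dvd.mul_left (Dvd.dvd.mul_right (Int.natCast_dvd_natCast.2 (hpd.trans (Finset.gcd_dvd hb))) _) _
      · have : g b = 0 := by exact_mod_cast (show (g b : ℚ) = 0 by rw [hgq b, hγout b hb, mul_zero])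
        rw [hg' b (Finset.mem_univ b)] at this
        rw [(mul_eq_zero.1 this).resolve_left hc0, zero_mul]
        exact dvd_zero _
    · have : g e = 0 := by exact_mod_cast (show (g e : ℚ) = 0 by rw [hgq e, hγout e he, mul_zero])
      rw [hg' e (Finset.mem_univ e)] at this
      rw [(mul_eq_zero.1 this).resolve_left hc0]
      exact dvd_zero _
  have h1 : (p : ℤ) ∣ 1 := hgcd ▸ Finset.dvd_gcd fun e _ => hall e
  exact hp.ne_one (Nat.dvd_one.1 (Int.natCast_dvd_natCast.1 (by simpa using h1)))

theorem orth_of_solvable (h : Solvable ends l) (x : E → ℤ) :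
    ∃ y : E → ℤ, ∀ γ : E → ℤ, (∀ v, boundary ends γ v = 0) → ∑ e, γ e * (x e - (l e : ℤ) * y e) = 0 := by
  obtain ⟨φ, hφ⟩ := h x
  choose y hy using hφ
  refine ⟨y, fun γ hγ => ?_⟩
  have := sum_bd_mul ends γ φ
  simp only [show ∀ v, bd ends γ v = boundary ends γ v from fun v => rfl, hγ, zero_mul, Finset.sum_const_zero] at this
  refine Eq.trans (Finset.sum_congr rfl fun e _ => ?_) this.symm
  congr 1
  linear_combination hy e

end LabGraphLib
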